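import Mathlib
import Cfsg.Agent.Lib.ChDeg.FrobArc

/-!
Multiplicities of eigenvalues read off from the character, and Blichfeldt's theorem on elements
whose eigenvalues lie within sixty degrees of one of them.
-/

set_option autoImplicit false

namespace CfsgLib.ChA

open Cfsg CfsgLib.Char CfsgLib.ChDeg Subgroup Module

variable {G : Type*} [Group G]

section
variable {V : Type*} [AddCommGroup V] [Module ℂ V] (ρ : Representation ℂ G V)

/-- `m` times the projection on the `μ`-eigenspace of `x` -/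
noncomputable def avg (x : G) (μ : ℂ) (m : ℕ) : End ℂ V :=
  ∑ i ∈ Finset.range m, μ⁻¹ ^ i • ρ (x ^ i)

theorem pow_apply_of_eigen {x : G} {μ : ℂ} {v : V} (h : ρ x v = μ • v) (i : ℕ) :
    ρ (x ^ i) v = μ ^ i • v := by
  induction i with
  | zero => simp
  | succ i ih => rw [pow_succ, map_mul, End.mul_apply, h, map_smul, ih, smul_smul, pow_succ']

theorem avg_of_eigen {x : G} {μ : ℂ} (hμ : μ ≠ 0) (m : ℕ) {v : V} (h : ρ x v = μ • v) :
    avg ρ x μ m v = (m : ℂ) • v := by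
  simp only [avg, LinearMap.sum_apply, LinearMap.smul_apply, pow_apply_of_eigen ρ h, smul_smul,
    ← mul_pow, inv_mul_cancel₀ hμ, one_pow, one_smul, Finset.sum_const, Finset.card_range,
    Nat.cast_smul_eq_nsmul]

theorem eigen_avg {x : G} {μ : ℂ} (hμ : μ ≠ 0) {m : ℕ} (hx : x ^ m = 1) (hm : μ ^ m = 1) (v : V) :
    ρ x (avg ρ x μ m v) = μ • avg ρ x μ m v := by
  have h1 := Finset.sum_range_succ' (fun i => μ⁻¹ ^ i • ρ (x ^ i) v) m
  rw [Finset.sum_range_succ, hx, inv_pow μ m, hm, inv_one, pow_zero, pow_zero] at h1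
  simp only [avg, LinearMap.sum_apply, LinearMap.smul_apply, map_sum, map_smul]
  rw [add_right_cancel h1, Finset.smul_sum]
  refine Finset.sum_congr rfl fun i _ => ?_
  rw [pow_succ' x, map_mul, End.mul_apply, smul_smul, pow_succ', mul_inv_cancel_left₀ hμ]

theorem sum_eq_finrank [FiniteDimensional ℂ V] {x : G} {μ : ℂ} {m : ℕ} (hm0 : m ≠ 0)
    (hx : x ^ m = 1) (hm : μ ^ m = 1) :
    ∑ i ∈ Finset.range m, μ⁻¹ ^ i * ρ.character (x ^ i) =
      m * finrank ℂ (End.eigenspace (ρ x) μ) := by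
  have hμ : μ ≠ 0 := by rintro rfl; simp [hm0] at hm
  have hm' : (m : ℂ) ≠ 0 := by exact_mod_cast hm0
  have h1 : LinearMap.IsProj (End.eigenspace (ρ x) μ) ((m : ℂ)⁻¹ • avg ρ x μ m) := by
    refine ⟨fun v => Submodule.smul_mem _ _ (End.mem_eigenspace_iff.2 (eigen_avg ρ hμ hx hm v)),
      fun v hv => ?_⟩
    rw [LinearMap.smul_apply, avg_of_eigen ρ hμ m (End.mem_eigenspace_iff.1 hv), smul_smul,
      inv_mul_cancel₀ hm', one_smul]
  rw [← h1.trace, map_smul, smul_eq_mul, mul_inv_cancel_left₀ hm', avg, map_sum]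
  exact Finset.sum_congr rfl fun i _ => by rw [map_smul, smul_eq_mul]; rfl

theorem pow_eq_one_of_eigen {x : G} {μ : ℂ} {m : ℕ} (hx : x ^ m = 1) {v : V} (hv : v ≠ 0)
    (h : ρ x v = μ • v) : μ ^ m = 1 := by
  have h1 := pow_apply_of_eigen ρ h m
  rw [hx, map_one, End.one_apply] at h1
  exact smul_left_injective ℂ hv (by simpa using h1.symm)

theorem sum_ne_zero_of_eigen [FiniteDimensional ℂ V] {x : G} {μ : ℂ} {m : ℕ} (hm0 : m ≠ 0)
    (hx : x ^ m = 1) {v : V} (hv : v ≠ 0) (h : ρ x v = μ • v) :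
    ∑ i ∈ Finset.range m, μ⁻¹ ^ i * ρ.character (x ^ i) ≠ 0 := by
  rw [sum_eq_finrank ρ hm0 hx (pow_eq_one_of_eigen ρ hx hv h)]
  refine mul_ne_zero (by exact_mod_cast hm0) ?_
  rw [Nat.cast_ne_zero, Ne, Submodule.finrank_eq_zero]
  intro e
  have := End.mem_eigenspace_iff.2 h
  rw [e] at this
  exact hv this

end

theorem blichfeldt_sixty [Finite G] {E : Type*} [NormedAddCommGroup E] [NormedSpace ℂ E]
    (ρ : Representation ℂ G E) (hρ : ∀ g v, ‖ρ g v‖ = ‖v‖) {g : G} {μ : ℂ} {c : ℝ} (hc : c < 1)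
    (hg : ∀ w, ‖ρ g w - μ • w‖ ≤ c * ‖w‖) {v₀ : E} (hv₀ : v₀ ≠ 0) (h0 : ρ g v₀ = μ • v₀)
    (htop : normalClosure ({g} : Set G) = ⊤) : ∃ v, v ≠ 0 ∧ ∀ h, IsConj g h → ρ h v = μ • v := by
  classical
  have := Fintype.ofFinite G
  set m := Nat.card G
  have hm0 : m ≠ 0 := Nat.card_pos.ne'
  have hμm : μ ^ m = 1 := pow_eq_one_of_eigen ρ pow_card_eq_one' hv₀ h0
  have hμ1 : ‖μ‖ = 1 := by
    have := congrArg norm hμm
    rwa [norm_pow, norm_one, pow_eq_one_iff_of_nonneg (norm_nonneg _) hm0] at this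
  have hμ : μ ≠ 0 := by rintro rfl; simp at hμ1
  have hinv : ∀ a w, ρ a (ρ a⁻¹ w) = w := fun a w => by
    rw [← End.mul_apply, ← map_mul, mul_inv_cancel, map_one, End.one_apply]
  have hK : ∀ h, IsConj g h → ∀ w, ‖ρ h w - μ • w‖ ≤ c * ‖w‖ := by
    intro h hh w
    obtain ⟨a, rfl⟩ := isConj_iff.1 hh
    have h1 := hg (ρ a⁻¹ w)
    rwa [← hρ a, map_sub, map_smul, hinv, hρ, ← End.mul_apply, ← End.mul_apply, ← map_mul,
      ← map_mul] at h1
  let F : E → Finset G := fun u => Finset.univ.filter fun k => IsConj g k ∧ ρ k u = μ • u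
  have hF : ∀ u k, k ∈ F u ↔ IsConj g k ∧ ρ k u = μ • u := fun u k => by simp [F]
  have hFc : ∀ u a k, k ∈ F u → a * k * a⁻¹ ∈ F (ρ a u) := fun u a k hk => by
    rw [hF] at hk ⊢
    refine ⟨hk.1.trans (isConj_iff.2 ⟨a, rfl⟩), ?_⟩
    rw [← End.mul_apply, ← map_mul, inv_mul_cancel_right, map_mul, End.mul_apply, hk.2, map_smul]
  have hcard : ∀ u a, (F u).card ≤ (F (ρ a u)).card := fun u a =>
    Finset.card_le_card_of_injOn (fun k => a * k * a⁻¹) (fun k hk => hFc u a k hk)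
      fun k _ l _ e => by simpa using e
  obtain ⟨n, ⟨v, hv, hn⟩, hmax⟩ := Set.Finite.exists_maximal
    ((Set.finite_le_nat (Fintype.card G)).subset
      (show {n | ∃ v : E, v ≠ 0 ∧ (F v).card = n} ⊆ _ by
        rintro _ ⟨v, -, rfl⟩; exact Finset.card_le_univ _)) ⟨_, v₀, hv₀, rfl⟩
  have hmax' : ∀ w, w ≠ 0 → (F w).card ≤ n := fun w hw =>
    le_of_not_gt fun h => (hmax ⟨w, hw, rfl⟩ h.le).not_gt h
  have hne : ∀ a, ρ a v ≠ 0 := fun a e => hv (by rw [← norm_eq_zero, ← hρ a, e, norm_zero])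
  have hcn : ∀ a, (F (ρ a v)).card = n := fun a => le_antisymm (hmax' _ (hne a)) (hn ▸ hcard v a)
  have hmul : ∀ a b, ρ a (ρ b v) = ρ (a * b) v := fun a b => by rw [map_mul, End.mul_apply]
  have key : ∀ a h, IsConj g h → F (ρ a v) ⊆ F (ρ (h * a) v) := by
    by_contra! H
    obtain ⟨⟨a, h⟩, ⟨hh, hbad⟩, hmin⟩ := Set.exists_min_image
      {q : G × G | IsConj g q.2 ∧ ¬ F (ρ q.1 v) ⊆ F (ρ (q.2 * q.1) v)}
      (fun q => ‖ρ (q.2 * q.1) v - μ • ρ q.1 v‖) (Set.toFinite _)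
      (by obtain ⟨a, h, H⟩ := H; exact ⟨(a, h), H⟩)
    obtain ⟨k, hk, hk'⟩ := Finset.not_subset.1 hbad
    simp only at hh hk hk' hmin
    set u := ρ a v with hu
    set u' := ρ (h * a) v with hu'
    obtain ⟨hk1, hk2⟩ := (hF _ _).1 hk
    have hku : ρ k u' - μ • u' = ρ k (u' - μ • u) - μ • (u' - μ • u) := by
      rw [map_sub, map_smul, hk2, smul_sub]; abel
    have hpos : 0 < ‖u' - μ • u‖ := by
      rw [norm_pos_iff]
      intro e
      rw [e, map_zero, smul_zero, sub_zero, sub_eq_zero] at hku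
      exact hk' ((hF _ _).2 ⟨hk1, hku⟩)
    have hsub : F u' ⊆ F (ρ (k * (h * a)) v) := by
      by_contra hb
      have h1 := hmin (h * a, k) ⟨hk1, hb⟩
      simp only at h1
      rw [← hmul k, ← hu', hku] at h1
      have h2 := hK k hk1 (u' - μ • u)
      nlinarith
    have heq : F u' = F (ρ k u') := by
      rw [hu', hmul]
      exact Finset.eq_of_subset_of_card_le hsub (by rw [hcn, hcn])
    have hpow : ∀ i : ℕ, F u' ⊆ F (ρ (k ^ i) u') := by
      intro i
      induction i with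
      | zero => simp
      | succ i ih =>
        intro l hl
        have h1 : k⁻¹ * l * k⁻¹⁻¹ ∈ F u' := by
          have h2 := hFc _ k⁻¹ l (heq ▸ hl)
          rwa [← End.mul_apply, ← map_mul, inv_mul_cancel, map_one, End.one_apply] at h2
        have h3 := hFc _ k _ (ih h1)
        rwa [← End.mul_apply, ← map_mul, ← pow_succ', show k * (k⁻¹ * l * k⁻¹⁻¹) * k⁻¹ = l by group]
          at h3
    have hw : avg ρ k μ m u' = 0 := by
      by_contra hw
      have h1 : insert k (F u') ⊆ F (avg ρ k μ m u') := by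
        refine Finset.insert_subset ((hF _ _).2 ⟨hk1, eigen_avg ρ hμ pow_card_eq_one' hμm _⟩)
          fun l hl => (hF _ _).2 ⟨((hF _ _).1 hl).1, ?_⟩
        simp only [avg, LinearMap.sum_apply, LinearMap.smul_apply, map_sum, map_smul,
          Finset.smul_sum]
        exact Finset.sum_congr rfl fun i _ => by rw [((hF _ _).1 (hpow i hl)).2, smul_comm]
      have h2 := (Finset.card_le_card h1).trans (hmax' _ hw)
      rw [Finset.card_insert_of_notMem hk', hcn] at h2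
      omega
    have h1 : avg ρ k μ m (u' - μ • u) = -(μ • (m : ℂ) • u) := by
      rw [map_sub, hw, map_smul, avg_of_eigen ρ hμ m hk2, zero_sub]
    have h2 : ‖avg ρ k μ m (u' - μ • u)‖ ≤ m * ‖u' - μ • u‖ := by
      rw [avg, LinearMap.sum_apply]
      refine (norm_sum_le _ _).trans (le_of_eq ?_)
      simp only [LinearMap.smul_apply, norm_smul, norm_pow, norm_inv, hμ1, hρ, inv_one, one_pow,
        one_mul, Finset.sum_const, Finset.card_range, nsmul_eq_mul]
    have h3 := hK h hh u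
    rw [hu, hmul, ← hu, ← hu'] at h3
    rw [h1, norm_neg, norm_smul, norm_smul, hμ1, one_mul, Complex.norm_natCast] at h2
    have h4 : 0 < ‖u‖ := norm_pos_iff.2 (hne a)
    have h5 : (0 : ℝ) < m := by exact_mod_cast Nat.pos_of_ne_zero hm0
    have h6 := le_of_mul_le_mul_left h2 h5
    nlinarith
  let S : Subgroup G :=
    { carrier := {b | ∀ a, F (ρ (b * a) v) = F (ρ a v)}
      mul_mem' := fun {b b'} hb hb' a => by rw [mul_assoc, hb, hb']
      one_mem' := fun a => by rw [one_mul]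
      inv_mem' := fun {b} hb a => by rw [← hb, mul_inv_cancel_left] }
  have hS : ∀ b, F (ρ b v) = F v := by
    have h1 : normalClosure ({g} : Set G) ≤ S := (closure_le S).2 fun h hh a => by
      obtain ⟨_, rfl, hh'⟩ := Group.mem_conjugatesOfSet_iff.1 hh
      exact (Finset.eq_of_subset_of_card_le (key a h hh') (by rw [hcn, hcn])).symm
    intro b
    simpa using h1 (htop ▸ mem_top b) 1
  obtain ⟨k, hk⟩ : (F v).Nonempty := Finset.card_pos.1 (hn ▸ lt_of_lt_of_le
    (Finset.card_pos.2 ⟨g, (hF _ _).2 ⟨IsConj.refl g, h0⟩⟩) (hmax' v₀ hv₀))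
  refine ⟨v, hv, fun h hh => ?_⟩
  obtain ⟨b, rfl⟩ := isConj_iff.1 (((hF _ _).1 hk).1.symm.trans hh)
  exact ((hF _ _).1 (hS b ▸ hFc v b k hk)).2

end CfsgLib.ChA
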