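import Mathlib
import Cfsg.Agent.Lib.ChA.XS
import Cfsg.Agent.Lib.ChA.Ito
import Cfsg.Agent.Lib.Glaub.Ext
import Cfsg.Agent.Lib.Cover.PRat
import Cfsg.Agent.Lib.Coprime.Action
import Cfsg.Agent.Lib.Core.Commutator
import Cfsg.Agent.Lib.Frob.CyclicIndex
import Cfsg.Agent.Lib.PGroup.Basic

/-!
Extension of the faithful character of a `2`-group `E` of extraspecial type to `E ⋊ H`: the case of
a normal subgroup of `H` of odd prime order without fixed points on `E / Z(E)`.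
-/

set_option autoImplicit false

namespace CfsgLib.ChA

open Cfsg CfsgLib.Char CfsgLib.ChDeg CfsgLib.CharDeep Subgroup
open scoped ComplexConjugate commutatorElement

variable {G : Type*} [Group G]

structure Cf (E H K : Subgroup G) (z : G) : Prop where
  pE : IsPGroup 2 E
  zE : z ∈ E
  z2 : orderOf z = 2
  zc : ∀ a ∈ E, a * z = z * a
  zH : ∀ h ∈ H, h * z = z * h
  nm : H ≤ normalizer E
  cm : ∀ a ∈ E, ∀ b ∈ E, a * b * a⁻¹ * b⁻¹ ∈ zpowers z
  ce : ∀ e ∈ E, (∀ a ∈ E, a * e = e * a) → e ∈ zpowers z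
  dj : E ⊓ H = ⊥
  KH : K ≤ H
  nK : H ≤ normalizer K
  odd : Odd (Nat.card K)
  cK : ∀ e ∈ E, (∀ k ∈ K, k * e = e * k) → e ∈ zpowers z

variable {E H K : Subgroup G} {z : G}

theorem Cf.xs (h : Cf E H K z) : XS E ⟨z, h.zE⟩ := by
  have h2 : orderOf (⟨z, h.zE⟩ : E) = 2 := by rw [← h.z2, orderOf_mk]
  have hm : ∀ x : E, x ∈ zpowers (⟨z, h.zE⟩ : E) ↔ (x : G) ∈ zpowers z := fun x => by
    rw [mem_zpowers_two h2, mem_zpowers_two h.z2, Subtype.ext_iff, Subtype.ext_iff]; rfl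
  refine ⟨h2, fun a b => (hm _).2 (h.cm a a.2 b b.2), fun e => ⟨fun he => (hm _).2
    (h.ce e e.2 fun a ha => congrArg Subtype.val (mem_center_iff.1 he ⟨a, ha⟩)), fun he => ?_⟩⟩
  exact zpowers_le.2 (mem_center_iff.2 fun a => Subtype.ext (h.zc a a.2)) he

theorem Cf.cop (h : Cf E H K z) [Finite G] {A F : Subgroup G} (hA : A ≤ K) (hF : F ≤ E) :
    (Nat.card A).Coprime (Nat.card F) := by
  obtain ⟨n, hn⟩ := h.pE.exists_card_eq
  exact Coprime.coprime_of_le (hn ▸ h.odd.coprime_two_right.pow_right n) hA hF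

theorem Cf.solv (h : Cf E H K z) [Finite G] {F : Subgroup G} (hF : F ≤ E) : Group.IsSolvable F :=
  Coprime.isSolvable_of_isPGroup (h.pE.to_le hF)

theorem Cf.dedekind (h : Cf E H K z) {Y : Subgroup G} (hY : Y ≤ H) : (E ⊔ Y) ⊓ H = Y := by
  rw [sup_comm, Core.sup_inf_assoc_of_le_normalizer hY (hY.trans h.nm), h.dj, sup_bot_eq]

theorem Cf.normal (h : Cf E H K z) (ht : E ⊔ H = ⊤) {Y : Subgroup G} (hY : H ≤ normalizer Y) :
    (E ⊔ Y).Normal := normalizer_eq_top_iff.1 (top_le_iff.1 (ht ▸ sup_le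
  (le_sup_left.trans le_normalizer)
  ((le_inf h.nm hY).trans (Core.normalizer_inf_le_normalizer_sup E Y))))

theorem comm_of (zc : ∀ a ∈ E, a * z = z * a) (zH : ∀ h ∈ H, h * z = z * h)
    (cm : ∀ a ∈ E, ∀ b ∈ E, a * b * a⁻¹ * b⁻¹ ∈ zpowers z) {F A : Subgroup G} (hF : F ≤ E)
    (hA : A ≤ H) {c : G} (hc : c ∈ E) (hcA : ∀ a ∈ A, a * c = c * a) :
    ⁅F, A⁆ ≤ centralizer {c} := by
  refine commutator_le.2 fun f hf a ha => mem_centralizer_singleton_iff.2 ?_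
  have h1 : Commute c a := (hcA a ha).symm
  have h2 : ∀ y ∈ zpowers z, Commute y (f * a * f⁻¹) := by
    rintro _ ⟨i, rfl⟩
    have h3 : Commute z f := (zc f (hF hf)).symm
    exact ((h3.mul_right (zH a (hA ha)).symm).mul_right h3.inv_right).zpow_left i
  have h3 := h2 _ (cm c hc f (hF hf))
  have e2 : c * a * c⁻¹ = a := by rw [h1.eq]; group
  calc ⁅f, a⁆ * c = c * f * c⁻¹ * f⁻¹ * (f * a * f⁻¹) * (c * f * c⁻¹ * f⁻¹)⁻¹ * a⁻¹ * c := by
        rw [h3.eq, commutatorElement_def]; group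
    _ = c * f * c⁻¹ * (c * a * c⁻¹) * (c * f * c⁻¹)⁻¹ * (c * a * c⁻¹)⁻¹ * c := by rw [e2]; group
    _ = c * ⁅f, a⁆ := by rw [commutatorElement_def]; group

theorem Cf.comm (h : Cf E H K z) {F A : Subgroup G} (hF : F ≤ E) (hA : A ≤ H) {c : G} (hc : c ∈ E)
    (hcA : ∀ a ∈ A, a * c = c * a) : ⁅F, A⁆ ≤ centralizer {c} :=
  comm_of h.zc h.zH h.cm hF hA hc hcA

theorem Cf.nE (h : Cf E H K z) (ht : E ⊔ H = ⊤) : E.Normal :=
  normalizer_eq_top_iff.1 (top_le_iff.1 (ht ▸ sup_le le_normalizer h.nm))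

variable [Finite G]

theorem Cf.irr_sub (h : Cf E H K z) {L : Subgroup G} (hL : E ≤ L) {f : L → ℂ}
    (hf : IsCharacter L f) (hg : Gd (Nat.card E) ⟨z, hL h.zE⟩ f) :
    IsIrrCharacter (E.subgroupOf L) fun e => f e :=
  isIrr_comp_mulEquiv (subgroupOfEquivOfLe hL) (h.xs.irr (isCharacter_comp (inclusion hL) hf) hg)

theorem Cf.ext_cyc (h : Cf E H K z) (N : Subgroup G) [N.Normal] (hN : E ≤ N) [IsCyclic (G ⧸ N)]
    {ψ : N → ℂ} (hψ : IsCharacter N ψ) (hg : Gd (Nat.card E) ⟨z, hN h.zE⟩ ψ)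
    (hinv : ∀ (g : G) (n : N), ψ (cj N g n) = ψ n) :
    ∃ χ, IsCharacter G χ ∧ Gd (Nat.card E) z χ := by
  obtain ⟨χ, hχ, hr⟩ := exists_irr_extension_of_isCyclic N
    (isIrr_of_comp_isIrr (E.subgroupOf N).subtype hψ (h.irr_sub hN hψ hg)) hinv
  have h1 : χ 1 = ψ 1 := hr 1
  exact ⟨χ, isCharacter_of_isIrr hχ, (hr ⟨z, _⟩).trans (h1 ▸ hg.1), h1 ▸ hg.2⟩

omit [Finite G] in
theorem Cf.gd_cj (h : Cf E H K z) (ht : E ⊔ H = ⊤) (N : Subgroup G) [N.Normal] (hN : E ≤ N)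
    {ψ : N → ℂ} (hg : Gd (Nat.card E) ⟨z, hN h.zE⟩ ψ) (g : G) :
    Gd (Nat.card E) ⟨z, hN h.zE⟩ (conjChar N g ψ) := by
  have h1 : g ∈ centralizer {z} := (sup_le (fun a ha => mem_centralizer_singleton_iff.2 (h.zc a ha))
    fun a ha => mem_centralizer_singleton_iff.2 (h.zH a ha) : E ⊔ H ≤ _) (ht ▸ mem_top g)
  refine ⟨?_, by rw [conjChar_apply_one]; exact hg.2⟩
  rw [conjChar_apply_one, ← hg.1]
  exact congrArg ψ (Subtype.ext (mul_inv_eq_of_eq_mul (mem_centralizer_singleton_iff.1 h1)))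

/-- the canonical extension over a subgroup of odd relative index -/
theorem Cf.canon (h : Cf E H K z) (ht : E ⊔ H = ⊤) {L : Subgroup G} (hL : E ≤ L)
    (ho : Odd (E.relIndex L)) : ∃ η : L → ℂ, IsIrrCharacter L η ∧ Gd (Nat.card E) ⟨z, hL h.zE⟩ η ∧
      (E.relIndex L).Coprime (detOrder η) ∧ ∀ f, IsIrrCharacter L f →
        Gd (Nat.card E) ⟨z, hL h.zE⟩ f → (E.relIndex L).Coprime (detOrder f) → f = η := by
  have : E.Normal := h.nE ht
  obtain ⟨θ, hθ, hg⟩ := h.xs.exists_gd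
  let e := subgroupOfEquivOfLe hL
  have hc : (Nat.card (E.subgroupOf L)).Coprime (E.subgroupOf L).index := by
    obtain ⟨n, hn⟩ := h.pE.exists_card_eq
    rw [Nat.card_congr e.toEquiv, hn]
    exact (ho.coprime_two_left).pow_left n
  obtain ⟨η, ⟨h1, h2, h3⟩, h4⟩ := Glaub.exists_canonical_of_coprime (E.subgroupOf L) hc
    (isIrr_comp_mulEquiv e hθ) fun g n => congrFun (h.xs.uniq
      (isCharacter_conjChar E g (isCharacter_of_isIrr hθ)) (isCharacter_of_isIrr hθ)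
      (h.gd_cj ht E le_rfl hg g) hg) (e n)
  have h5 : η 1 = θ 1 := (h2 1).trans (by simp)
  refine ⟨η, h1, ⟨(h2 ⟨⟨z, hL h.zE⟩, h.zE⟩).trans (h5 ▸ hg.1), h5 ▸ hg.2⟩,
    hc.symm.coprime_dvd_right (h3 ▸ Glaub.detOrder_dvd_card _), fun f hf hg' => h4 f hf fun n => ?_⟩
  exact congrFun (h.xs.uniq (isCharacter_comp (inclusion hL) (isCharacter_of_isIrr hf))
    (isCharacter_of_isIrr hθ) hg' hg) (e n)

theorem exists_odd_mult {X : Type*} [Group X] [Fintype X] {ψ : X → ℂ} (hψ : IsCharacter X ψ)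
    {k : X} (hk : ψ k * conj (ψ k) = 1) :
    ∃ β, IsIrrCharacter X β ∧ ∃ m : ℕ, Odd m ∧ classInner ψ β = m := by
  obtain ⟨n, hn, hs⟩ := exists_char_eq_sum_nat hψ
  by_contra! H
  choose c hc using fun β : IrrCharacter X => Nat.not_odd_iff_even.1 fun o => H β β.2 _ o (hn β)
  have h1 := isIntegral_char (isCharacter_sum_nat c) k
  set w := (∑ β : IrrCharacter X, (c β : ℂ) • (β : X → ℂ)) k with hw
  have h2 : ψ k = 2 * w := by
    rw [hs, hw, Finset.sum_apply, Finset.sum_apply, Finset.mul_sum]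
    exact Finset.sum_congr rfl fun β _ => by simp [hc]; ring
  have h3 : w * conj w = (1 : ℕ) / (4 : ℕ) := by
    rw [h2, map_mul, show conj (2 : ℂ) = 2 from map_ofNat _ 2] at hk
    push_cast
    linear_combination hk / 4
  exact absurd (nat_dvd_of_isIntegral_div (by norm_num) (h3 ▸ h1.mul (isIntegral_conj h1)))
    (by norm_num)

theorem Cf.norm_one (h : Cf E H K z) (ht : E ⊔ H = ⊤) {k : G} (hk : K = zpowers k)
    {η : ↥(E ⊔ K) → ℂ} (hη : IsCharacter _ η) (hg : Gd (Nat.card E) ⟨z, mem_sup_left h.zE⟩ η)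
    (hm : k ∈ E ⊔ K) : η ⟨k, hm⟩ * conj (η ⟨k, hm⟩) = 1 := by
  have hE : E.Normal := h.nE ht
  have := Fintype.ofFinite ↥(E ⊔ K)
  have := Fintype.ofFinite (E.subgroupOf (E ⊔ K))
  have h1 := sum_coset_mul_conj (E.subgroupOf (E ⊔ K)) hη (h.irr_sub le_sup_left hη hg) ⟨k, hm⟩
  rw [Finset.sum_congr rfl (g := fun _ => η ⟨k, hm⟩ * conj (η ⟨k, hm⟩)), Finset.sum_const,
    Finset.card_univ, ← Nat.card_eq_fintype_card, nsmul_eq_mul] at h1
  · exact (mul_eq_left₀ natCard_ne_zero).1 h1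
  rintro ⟨⟨e, he'⟩, he⟩ -
  replace he : e ∈ E := he
  obtain ⟨a, ha, h2⟩ := Coprime.exists_conj_mem_centralizer (h.KH.trans h.nm) (h.cop le_rfl le_rfl)
    (.inr (h.solv le_rfl)) (e * k) fun b hb => by
      obtain ⟨i, rfl⟩ := hk ▸ hb
      refine ⟨k ^ i * ((e * k) ^ i)⁻¹, ?_, ?_⟩
      · rw [← QuotientGroup.eq_one_iff]
        simp [(QuotientGroup.eq_one_iff e).2 he]
      · generalize e * k = x; simp only; group
  have h3 : a * (e * k) * a⁻¹ * k⁻¹ ∈ zpowers z := h.cK _ (by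
    rw [show a * (e * k) * a⁻¹ * k⁻¹ = a * e * (k * a⁻¹ * k⁻¹) by group]
    exact mul_mem (mul_mem ha he) (hE.conj_mem _ (inv_mem ha) _)) fun b hb => by
      obtain ⟨i, rfl⟩ := hk ▸ hb
      rw [← mul_assoc, h2 _ hb]; simp only; group
  have h4 := isClassFunction_of_isCharacter hη (⟨e, he'⟩ * ⟨k, hm⟩) ⟨a, mem_sup_left ha⟩
  rw [← h4]
  rcases (mem_zpowers_two h.z2).1 h3 with e1 | e1
  · rw [show (⟨a, mem_sup_left ha⟩ * (⟨e, he'⟩ * ⟨k, hm⟩) * (⟨a, mem_sup_left ha⟩)⁻¹ : ↥(E ⊔ K)) =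
      ⟨k, hm⟩ from Subtype.ext (mul_inv_eq_one.1 e1)]
  · have h0 : η 1 ≠ 0 := fun e => by
      have := hg.2
      rw [e] at this
      exact natCard_ne_zero (by simpa using this.symm)
    rw [show (⟨a, mem_sup_left ha⟩ * (⟨e, he'⟩ * ⟨k, hm⟩) * (⟨a, mem_sup_left ha⟩)⁻¹ : ↥(E ⊔ K)) =
      ⟨z, mem_sup_left h.zE⟩ * ⟨k, hm⟩ from Subtype.ext (mul_inv_eq_iff_eq_mul.1 e1),
      char_mul_of_norm_eq hη (by rw [hg.1, norm_neg]), hg.1, neg_div_self h0]
    simp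

/-- extensions over a `2`-group are fixed by the automorphisms fixing the `2`-power roots of one -/
theorem gal_fix {X : Type*} [Group X] [Fintype X] (E N : Subgroup X) [E.Normal] [N.Normal]
    (hE : IsPGroup 2 E) (hEN : E ≤ N) {a : ℕ} (ha : N.index = 2 ^ a) {χ : X → ℂ}
    (hχ : IsCharacter X χ) (hi : IsIrrCharacter E fun e => χ e) (τ : ℂ ≃+* ℂ) {n : ℕ} (hn : n ≠ 0)
    (hd : Nat.card X ∣ n) (hτ : ∀ ε : ℂ, ε ^ 2 ^ n.factorization 2 = 1 → τ ε = ε)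
    (hN : ∀ x : N, τ (χ x) = χ x) (x : X) : τ (χ x) = χ x := by
  classical
  have hiN : IsIrrCharacter N fun e => χ e :=
    isIrr_of_comp_isIrr (inclusion hEN) (isCharacter_restrict N hχ) hi
  obtain ⟨β, hβ, hβN, e⟩ := gallagher_surj N hχ hiN
    (isIrr_ringHom (τ : ℂ →+* ℂ) (isIrr_of_comp_isIrr N.subtype hχ hiN))
    (by rw [show (fun x : N => (τ : ℂ →+* ℂ) (χ x)) = fun x : N => χ x from funext hN,
      classInner_irr_self hiN]; exact one_ne_zero)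
  have e' : ∀ y, τ (χ y) = β y * χ y := congrFun e
  have h0 : χ 1 ≠ 0 := by
    rw [← deg_cast hχ, ← deg_res N]; exact_mod_cast (deg_pos hiN).ne'
  have h1 : β 1 = 1 := (mul_eq_right₀ h0).1 ((e' 1).symm.trans (hN 1))
  obtain ⟨μ, rfl⟩ := exists_monoidHom_of_one_eq_one (isCharacter_of_isIrr hβ) h1
  obtain ⟨i, j, h2, h3, m, hm, h4⟩ := exists_split (p := 2) x
  have h5 : x ^ j ∈ N := by
    rw [← QuotientGroup.eq_one_iff]
    refine PE.eq_one (p := 2) ⟨a, by rw [← ha]; exact pow_card_eq_one'⟩ hm ?_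
    rw [← QuotientGroup.mk_pow, h4, QuotientGroup.mk_one]
  obtain ⟨w, hw⟩ : ∃ w : E, χ (w * x ^ i) ≠ 0 := by
    by_contra! h
    have h6 := sum_coset_mul_conj E hχ hi (x ^ i)
    simp only [h, zero_mul, Finset.sum_const_zero] at h6
    exact natCard_ne_zero h6.symm
  have h6 : PE 2 (w * x ^ i : X) := by
    obtain ⟨c, hc⟩ := h3
    obtain ⟨d, hd⟩ := hE ⟨(w * x ^ i) ^ 2 ^ c, by
      rw [← QuotientGroup.eq_one_iff, QuotientGroup.mk_pow, QuotientGroup.mk_mul,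
        (QuotientGroup.eq_one_iff _).2 w.2, one_mul, ← QuotientGroup.mk_pow, hc,
        QuotientGroup.mk_one]⟩
    exact ⟨c + d, by rw [pow_add, pow_mul]; exact congrArg Subtype.val hd⟩
  have h7 := ringHom_char_eq_pow (τ : ℂ →+* ℂ) hχ (w * x ^ i) (k := 1) fun ε hε => by
    obtain ⟨c, hc⟩ := orderOf_dvd_of_pow_eq_one (h6.pow_eq_one hn hd)
    rw [pow_one]
    exact hτ ε (by rw [hc, pow_mul, hε, one_pow])
  have h8 := (mul_eq_right₀ hw).1 ((e' _).symm.trans (h7.trans (by rw [pow_one])))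
  rw [map_mul, hβN _ (hEN w.2), h1, one_mul] at h8
  rw [e', h2, map_mul, h8, hβN _ h5, h1, one_mul, one_mul]

theorem Cf.fin (h : Cf E H K z) (ht : E ⊔ H = ⊤) (hr : (Nat.card K).Prime) {a : ℕ}
    (ha : (E ⊔ K).index = 2 ^ a) : ∃ χ, IsCharacter G χ ∧ Gd (Nat.card E) z χ := by
  classical
  have := Fintype.ofFinite G
  have hE := h.nE ht
  have hN := h.normal ht h.nK
  have := Fact.mk hr
  have hKc : IsCyclic K := isCyclic_of_prime_card rfl
  obtain ⟨k, hk⟩ := Frob.exists_zpowers_eq_of_isCyclic hKc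
  have hkK : k ∈ K := hk ▸ mem_zpowers k
  have hko : orderOf k = Nat.card K := by rw [← hk, Nat.card_zpowers]
  set H₁ := H ⊓ centralizer (K : Set G)
  have hH₁ : H ≤ normalizer H₁ := (le_inf le_normalizer
    (h.nK.trans (Core.normalizer_le_normalizer_centralizer _))).trans inf_normalizer_le_normalizer_inf
  have hN₁ := h.normal ht hH₁
  have hKH₁ : K ≤ H₁ := le_inf h.KH fun x hx y hy =>
    congrArg Subtype.val (mul_comm' (⟨y, hy⟩ : K) ⟨x, hx⟩)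
  have hNN : E ⊔ K ≤ E ⊔ H₁ := sup_le_sup_left hKH₁ E
  obtain ⟨s, hsH, hs⟩ : ∃ s ∈ H, E ⊔ H₁ ⊔ zpowers s = ⊤ := by
    let π : H →* MulAut K := K.normalizerMonoidHom.comp (inclusion h.nK)
    have : IsCyclic (MulAut K) := (IsCyclic.mulAutMulEquiv K).isCyclic.2 inferInstance
    obtain ⟨⟨_, s, rfl⟩, hs⟩ := IsCyclic.exists_generator (α := π.range)
    refine ⟨s, s.2, top_le_iff.1 (ht ▸ sup_le (le_sup_left.trans le_sup_left) fun x hx => ?_)⟩
    obtain ⟨i, hi⟩ := hs ⟨_, ⟨x, hx⟩, rfl⟩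
    have h1 : π (⟨x, hx⟩ * (s ^ i)⁻¹) = 1 := by
      rw [map_mul, map_inv, map_zpow, mul_inv_eq_one]; exact (congrArg Subtype.val hi).symm
    have h2 : x * ((s : G) ^ i)⁻¹ ∈ centralizer (K : Set G) := by
      have h3 : inclusion h.nK (⟨x, hx⟩ * (s ^ i)⁻¹) ∈ K.normalizerMonoidHom.ker := h1
      rwa [normalizerMonoidHom_ker] at h3
    rw [← inv_mul_cancel_right x ((s : G) ^ i)]
    exact mul_mem_sup (mem_sup_right (mem_inf.2 ⟨mul_mem hx (inv_mem (zpow_mem s.2 i)), h2⟩))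
      (zpow_mem_zpowers _ _)
  have : IsCyclic (G ⧸ (E ⊔ H₁)) := ⟨s, fun q => by
    obtain ⟨g, rfl⟩ := QuotientGroup.mk_surjective q
    obtain ⟨n, hn, i, rfl⟩ := PGroup.mem_sup_zpowers_iff.1 (hs ▸ mem_top g)
    exact ⟨i, by simp [(QuotientGroup.eq_one_iff n).2 hn]⟩⟩
  obtain ⟨j, hj⟩ : ∃ j : ℕ, k ^ j = s * k * s⁻¹ := mem_powers_iff_mem_zpowers.2
    (hk ▸ le_normalizer_iff.1 h.nK s hsH k hkK)
  have hj' : ∀ y ∈ K, s * y * s⁻¹ = y ^ j := fun y hy => by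
    obtain ⟨i, rfl⟩ := mem_powers_iff_mem_zpowers.2 (hk ▸ hy : y ∈ zpowers k)
    rw [← conj_pow, ← hj, ← pow_mul, ← pow_mul, mul_comm]
  have hjc : j.Coprime (Nat.card K) := (hr.coprime_iff_not_dvd.2 fun e => by
    rw [← hko, orderOf_dvd_iff_pow_eq_one, hj, conj_eq_one_iff] at e
    rw [e, orderOf_one] at hko
    exact hr.ne_one hko.symm).symm
  obtain ⟨τ, hτ1, hτ2⟩ := exists_ringEquiv_pow_fix (m := 2 ^ (Nat.card G).factorization 2)
    (by positivity) hr.pos (h.odd.coprime_two_left.pow_left _) hjc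
  obtain ⟨η, hη, hg, hdet, huniq⟩ := h.canon ht (L := E ⊔ K) le_sup_left
    (h.odd.of_dvd_nat (Coprime.relIndex_dvd_of_le_sup (h.KH.trans h.nm) le_rfl))
  have hηc := isCharacter_of_isIrr hη
  have hη1 : ∀ g, conjChar (E ⊔ K) g η = η := fun g => huniq _ (isIrr_conjChar _ g hη)
    (h.gd_cj ht _ _ hg g) (hdet.coprime_dvd_right (Cover.detOrder_comp_dvd
      (MulAut.conjNormal g : MulAut ↥(E ⊔ K)).toMonoidHom hηc (isIrr_conjChar _ g hη)))
  have hη2 : ∀ x, τ (η x) = η x := congrFun (huniq _ (isIrr_ringHom (τ : ℂ →+* ℂ) hη)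
    (by
      have h1 : τ (η 1) = η 1 := by rw [← deg_cast hηc, map_natCast]
      exact ⟨(congrArg τ hg.1).trans (map_neg _ _), by rw [← hg.2]; exact congrArg (2 * · ^ 2) h1⟩)
    (hdet.coprime_dvd_right (Cover.detOrder_gal_dvd τ hη)))
  set N' := (E ⊔ K).subgroupOf (E ⊔ H₁)
  set K' := K.subgroupOf H₁
  let ι := inclusion (le_sup_right : H₁ ≤ E ⊔ H₁)
  have hι : ∀ u : H₁, ι u ∈ N' ↔ u ∈ K' := fun u =>
    ⟨fun hu => (h.dedekind h.KH).le ⟨hu, u.2.1⟩, fun hu => mem_sup_right hu⟩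
  have hidx : N'.index = K'.index := by
    have h1 : E ⊔ H₁ = E ⊔ K ⊔ H₁ := by rw [sup_assoc, sup_of_le_right hKH₁]
    have h2 : (E ⊔ K) ⊓ H₁ = K := by rw [← inf_assoc, h.dedekind h.KH]; exact inf_of_le_left fun x hx =>
      (hKH₁ hx).2
    change (E ⊔ K).relIndex (E ⊔ H₁) = K.relIndex H₁
    rw [h1, relIndex_sup_left, ← inf_relIndex_right, h2]
  obtain ⟨b, -, hb⟩ := (Nat.dvd_prime_pow Nat.prime_two).1
    (ha ▸ relIndex_dvd_index_of_normal (E ⊔ K) (E ⊔ H₁))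
  replace hb : N'.index = 2 ^ b := hb
  have hKZ : ∀ (g : H₁), ∀ y ∈ K', g * y * g⁻¹ = y := fun g y hy =>
    Subtype.ext (mul_inv_eq_of_eq_mul (g.2.2 y hy).symm)
  have : K'.Normal := ⟨fun y hy g => (hKZ g y hy).symm ▸ hy⟩
  have : IsMulCommutative K' := ⟨⟨fun x y => Subtype.ext (mul_inv_eq_iff_eq_mul.1 (hKZ x y y.2))⟩⟩
  let κ : K' →* ↥(E ⊔ K) :=
    (inclusion le_sup_right).comp (subgroupOfEquivOfLe hKH₁).toMonoidHom
  obtain ⟨β, hβ, m, hm, hβm⟩ := exists_odd_mult (isCharacter_comp κ hηc) (k := ⟨⟨k, hKH₁ hkK⟩, hkK⟩)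
    (h.norm_one ht hk.symm hηc hg (mem_sup_right hkK))
  obtain ⟨f, rfl⟩ := exists_unitsHom_of_one_eq_one (isCharacter_of_isIrr hβ)
    (irr_one_eq_one_of_comm hβ)
  have hcK : Nat.card K' = Nat.card K := Nat.card_congr (subgroupOfEquivOfLe hKH₁).toEquiv
  obtain ⟨v, -, hv⟩ := Nat.exists_mul_mod_eq_one_of_coprime (n := K'.index)
    (by rw [← hidx, hb]; exact h.odd.coprime_two_left.pow_left _) hr.one_lt
  let φ : H₁ →* ℂˣ := (powMonoidHom v).comp (MonoidHom.transfer f)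
  have hφ : ∀ u : H₁, φ u = f ⟨u ^ K'.index, K'.pow_index_mem u⟩ ^ v := fun u =>
    congrArg (· ^ v) (MonoidHom.transfer_eq_pow f u fun i g hg => by
      have h1 := hKZ g _ hg
      rw [← h1]; group)
  have hφc : IsCharacter H₁ fun u => (φ u : ℂ) :=
    isCharacter_of_isIrr (isIrr_monoidHom ((Units.coeHom ℂ).comp φ))
  let e := subgroupOfEquivOfLe hNN
  have hinv : ∀ (g : ↥(E ⊔ H₁)) (n : N'), η (e (cj N' g n)) = η (e n) := fun g n =>
    congrFun (hη1 g) (e n)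
  have hodd := odd_card_ext N' hb (isIrr_comp_mulEquiv e hη) hinv ι hφc hm (by
    have h1 : (fun u => indFun N' (fun n => η (e n)) (ι u)) = indFun K' fun y => η (κ y) := by
      ext u
      by_cases hu : u ∈ K'
      · rw [show indFun K' _ u = _ from congrFun (res_indFun_of_invariant K' (φ := fun y => η (κ y))
          fun g n => congrArg _ (congrArg _ (Subtype.ext (hKZ g n n.2)))) ⟨u, hu⟩, ← hidx]
        exact congrFun (res_indFun_of_invariant N' hinv) ⟨ι u, (hι u).2 hu⟩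
      · rw [indFun_eq_zero_of_normal _ _ hu, indFun_eq_zero_of_normal _ _ (mt (hι u).1 hu)]
    rw [h1, classInner_indFun_left _ _ (isClassFunction_of_isCharacter hφc), ← hβm]
    congr 1
    ext y
    rw [hφ, ← map_pow, show (⟨(y : H₁) ^ K'.index, _⟩ : K') = y ^ K'.index from rfl, ← pow_mul,
      ← pow_mod_natCard, hcK, hv, pow_one])
  have hgd : ∀ χ : ↥(E ⊔ H₁) → ℂ, (∀ n : N', χ n = η (e n)) →
      Gd (Nat.card E) ⟨z, mem_sup_left h.zE⟩ χ := fun χ hχ => by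
    have h1 : χ 1 = η 1 := (hχ 1).trans (by simp)
    exact ⟨(hχ ⟨⟨z, _⟩, mem_sup_left h.zE⟩).trans (h1 ▸ hg.1), h1 ▸ hg.2⟩
  have : H₁.subgroupOf H |>.Normal := normal_subgroupOf_of_le_normalizer hH₁
  let α : H₁ ≃* H₁ := H₁.normalizerMonoidHom ⟨s, hH₁ hsH⟩
  have hα : ∀ u, ((α u : H₁) : G) = s * u * s⁻¹ := fun u => rfl
  have hαφ : ∀ u, (φ (α u) : ℂ) = τ (φ u) := fun u => by
    rw [hτ2, hφ, hφ, ← Units.val_pow_eq_pow_val, ← pow_mul, mul_comm v, pow_mul, ← map_pow f _ j]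
    · refine congrArg (fun y => ((f y ^ v : ℂˣ) : ℂ)) (Subtype.ext (Subtype.ext ?_))
      change ((α u : H₁) : G) ^ _ = ((u : G) ^ _) ^ j
      rw [hα, conj_pow]
      exact hj' _ (K'.pow_index_mem u)
    · rw [hφ, ← Units.val_pow_eq_pow_val, ← pow_mul, mul_comm v, pow_mul, ← map_pow, ← hcK,
        pow_card_eq_one']
      simp
  let c : Function.End {χ : IrrCharacter ↥(E ⊔ H₁) // (∀ n : N', χ.1 n = η (e n)) ∧
      ∃ k : ℕ, Odd k ∧ classInner (fun u => χ.1 (ι u)) (fun u => (φ u : ℂ)) = k} :=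
    fun χ => ⟨⟨conjChar _ s χ.1.1, isIrr_conjChar _ s χ.1.2⟩, by
      have h1 : ∀ n : N', conjChar _ s χ.1.1 n = η (e n) := fun n =>
        (χ.2.1 ⟨cj _ s n, hN.conj_mem _ n.2 s⟩).trans (congrFun (hη1 s) (e n))
      have h2 := isCharacter_conjChar _ s (isCharacter_of_isIrr χ.1.2)
      obtain ⟨i, hi, h3⟩ := χ.2.2
      obtain ⟨i', h4⟩ := exists_classInner_eq_nat (isCharacter_comp ι h2) hφc
      refine ⟨h1, i, hi, ?_⟩
      have h5 := classInner_ringHom (τ : ℂ →+* ℂ) (fun u => conjChar _ s χ.1.1 (ι u))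
        (isGenChar_of_isCharacter hφc)
      rw [h4, map_natCast] at h5
      refine h4.trans (h5.symm.trans (Eq.trans ?_ ((classInner_comp_mulEquiv α _ _).trans h3)))
      congr 1
      · ext u
        exact gal_fix (E.subgroupOf _) N' (h.pE.comap_subtype) (comap_mono le_sup_left) hb h2
          (h.irr_sub le_sup_left h2 (hgd _ h1)) τ Nat.card_pos.ne' (card_subgroup_dvd_card _) hτ1
          (fun x => by rw [h1, hη2]) _
      · exact funext fun u => (hαφ u).symm⟩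
  have hc : ∀ (n : ℕ) χ, ((c ^ n) χ).1.1 = conjChar _ (s ^ n) χ.1.1 := fun n χ => by
    induction n with
    | zero => rw [pow_zero s, conjChar_one]; rfl
    | succ n ih => rw [pow_succ s, ← conjChar_conjChar, ← ih, pow_succ']; rfl
  have hc1 : c ^ 2 ^ a = 1 := funext fun χ => Subtype.ext (Subtype.ext ((hc _ χ).trans
    (conjChar_of_mem _ (hNN (ha ▸ pow_index_mem _ s)) (isClassFunction_of_isIrr χ.1.2))))
  have h1 := Equiv.Perm.card_fixedPoints_modEq hc1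
  rw [← Nat.card_eq_fintype_card, ← Nat.card_eq_fintype_card] at h1
  obtain ⟨⟨χ, hχ⟩⟩ := (Nat.card_ne_zero (α := Function.fixedPoints c)).1 (fun e =>
    Nat.not_even_iff_odd.2 hodd (Nat.even_iff.2 (Eq.trans h1 (by rw [e])))) |>.1
  have h2 : inertia (E ⊔ H₁) χ.1.1 = ⊤ := top_le_iff.1 (hs ▸ sup_le
    (le_inertia _ (isClassFunction_of_isIrr χ.1.2))
    (zpowers_le.2 (congrArg Subtype.val (congrArg Subtype.val (hχ : c χ = χ)))))
  exact h.ext_cyc _ le_sup_left (isCharacter_of_isIrr χ.1.2) (hgd _ χ.2.1) ((inv_cj_iff _ _).2 h2)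

end CfsgLib.ChA
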